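import Groth.Agent.HensSec7.Local
import Mathlib.AlgebraicGeometry.Morphisms.Smooth

/-! Rational points of the closed fibre of a smooth scheme over a henselian local ring lift. -/

set_option autoImplicit false
set_option backward.isDefEq.respectTransparency false
set_option linter.style.haveILetI false
universe u

open CategoryTheory CategoryTheory.Limits AlgebraicGeometry IsLocalRing

namespace Groth.Agent.HensSec7

theorem exists_retraction {A B : Type u} [CommRing A] [HenselianLocalRing A] [CommRing B]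
    (φ : A →+* B) (hφ : φ.IsStandardSmooth) (b : B →+* ResidueField A) (hb : b.comp φ = IsLocalRing.residue A) :
    ∃ r : B →+* A, r.comp φ = RingHom.id A ∧ (IsLocalRing.residue A).comp r = b := by
  obtain ⟨n, g, hg, hge⟩ := hφ.exists_etale_mvPolynomial
  choose a ha using fun j : Fin n => residue_surjective (R := A) (b (g (MvPolynomial.X j)))
  let ev : MvPolynomial (Fin n) A →+* A := MvPolynomial.eval₂Hom (RingHom.id A) a
  have hev : b.comp g = (IsLocalRing.residue A).comp ev := by
    refine MvPolynomial.ringHom_ext (fun c => ?_) fun j => ?_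
    · simp [ev, ← hb, ← hg]
    · simp [ev, ha]
  let ρ : Spec (CommRingCat.of B) ⟶ Spec (CommRingCat.of (MvPolynomial (Fin n) A)) :=
    Spec.map (CommRingCat.ofHom g)
  haveI : Etale ρ := by
    rw [HasRingHomProperty.Spec_iff (P := @Etale)]
    exact hge
  let s : Spec (CommRingCat.of A) ⟶ Spec (CommRingCat.of (MvPolynomial (Fin n) A)) :=
    Spec.map (CommRingCat.ofHom ev)
  let i := closedPointHom A
  let v₀ : Spec (CommRingCat.of (ResidueField A)) ⟶ pullback s ρ :=
    pullback.lift i (Spec.map (CommRingCat.ofHom b)) (by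
      simp only [i, s, ρ, closedPointHom]
      rw [← Spec.map_comp, ← Spec.map_comp, ← CommRingCat.ofHom_comp, ← CommRingCat.ofHom_comp, hev])
  haveI : IsSeparated (pullback.fst s ρ) := MorphismProperty.pullback_fst _ _ inferInstance
  obtain ⟨v, ⟨hv1, hv2⟩, -⟩ := existsUnique_section (finiteLifts A) (pullback.fst s ρ) v₀ (pullback.lift_fst _ _ _)
  let r := (Spec.preimage (v ≫ pullback.snd s ρ)).hom
  have hr : Spec.map (CommRingCat.ofHom r) = v ≫ pullback.snd s ρ := by
    rw [CommRingCat.ofHom_hom, Spec.map_preimage]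
  refine ⟨r, ?_, ?_⟩
  · have h1 : r.comp g = ev := by
      have : Spec.map (CommRingCat.ofHom (r.comp g)) = Spec.map (CommRingCat.ofHom ev) := by
        rw [CommRingCat.ofHom_comp, Spec.map_comp, hr]
        show (v ≫ pullback.snd s ρ) ≫ ρ = s
        rw [Category.assoc, ← pullback.condition, reassoc_of% hv1]
      exact congrArg CommRingCat.Hom.hom (Spec.map_inj.1 this)
    rw [← hg, ← RingHom.comp_assoc, h1]
    ext c
    simp [ev]
  · have : Spec.map (CommRingCat.ofHom ((IsLocalRing.residue A).comp r)) = Spec.map (CommRingCat.ofHom b) := by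
      rw [CommRingCat.ofHom_comp, Spec.map_comp, hr]
      show i ≫ v ≫ pullback.snd s ρ = _
      rw [reassoc_of% hv2, pullback.lift_snd]
    exact congrArg CommRingCat.Hom.hom (Spec.map_inj.1 this)

theorem exists_section_smooth {A : Type u} [CommRing A] [HenselianLocalRing A]
    {X : Scheme.{u}} (f : X ⟶ Spec (CommRingCat.of A)) [Smooth f]
    (u₀ : Spec (CommRingCat.of (ResidueField A)) ⟶ X)
    (h₀ : u₀ ≫ f = Spec.map (CommRingCat.ofHom (IsLocalRing.residue A))) :
    ∃ u : Spec (CommRingCat.of A) ⟶ X, u ≫ f = 𝟙 _ ∧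
      Spec.map (CommRingCat.ofHom (IsLocalRing.residue A)) ≫ u = u₀ := by
  let p : ↥(Spec (CommRingCat.of (ResidueField A))) := IsLocalRing.closedPoint (ResidueField A)
  obtain ⟨U, hU, V, hV, hx, e, hf⟩ := Smooth.exists_isStandardSmooth f (u₀ p)
  have hsub : Subsingleton ↥(Spec (CommRingCat.of (ResidueField A))) :=
    inferInstanceAs (Subsingleton (PrimeSpectrum (ResidueField A)))
  obtain rfl : U = ⊤ := top_le_iff.1 fun s _ => by
    have h1 : f (u₀ p) = IsLocalRing.closedPoint A := by
      rw [← Scheme.Hom.comp_apply, h₀]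
      exact IsLocalRing.comap_closedPoint (IsLocalRing.residue A)
    have h2 : IsLocalRing.closedPoint A ∈ U := h1 ▸ e hx
    exact (IsLocalRing.specializes_closedPoint s).mem_open U.2 h2
  let j : Spec Γ(X, V) ⟶ X := hV.fromSpec
  haveI := hV.isOpenImmersion_fromSpec
  let w := IsOpenImmersion.lift j u₀ (by
    rintro _ ⟨q, rfl⟩
    rw [hV.range_fromSpec, Subsingleton.elim q p]
    exact hx)
  let φ : A →+* Γ(X, V) := ((Scheme.ΓSpecIso (CommRingCat.of A)).inv ≫ f.appLE ⊤ V e).hom
  have hφ : φ.IsStandardSmooth := by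
    refine RingHom.isStandardSmooth_respectsIso.2 _ (Scheme.ΓSpecIso (CommRingCat.of A)).symm.commRingCatIsoToRingEquiv hf
  have hjf : j ≫ f = Spec.map (CommRingCat.ofHom φ) := by
    rw [CommRingCat.ofHom_hom, Spec.map_comp, ← IsAffineOpen.SpecMap_appLE_fromSpec f (isAffineOpen_top _) hV e,
      IsAffineOpen.fromSpec_top, Scheme.isoSpec_Spec_inv]
  let b := (Spec.preimage w).hom
  have hb : b.comp φ = IsLocalRing.residue A := by
    have : Spec.map (CommRingCat.ofHom (b.comp φ)) = Spec.map (CommRingCat.ofHom (IsLocalRing.residue A)) := by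
      rw [CommRingCat.ofHom_comp, Spec.map_comp, ← hjf, ← h₀]
      simp only [b, CommRingCat.ofHom_hom, Spec.map_preimage, w, IsOpenImmersion.lift_fac_assoc]
    exact congrArg CommRingCat.Hom.hom (Spec.map_inj.1 this)
  obtain ⟨r, hr1, hr2⟩ := exists_retraction φ hφ b hb
  refine ⟨Spec.map (CommRingCat.ofHom r) ≫ j, ?_, ?_⟩
  · rw [Category.assoc, hjf, ← Spec.map_comp, ← CommRingCat.ofHom_comp, hr1]
    exact Spec.map_id _
  · rw [← Spec.map_comp_assoc, ← CommRingCat.ofHom_comp, hr2]
    simp only [b, CommRingCat.ofHom_hom, Spec.map_preimage, w, IsOpenImmersion.lift_fac]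

end Groth.Agent.HensSec7
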