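import Groth.Agent.HensSec7.Sections

/-! Henselian local rings: finite parts of quasi-finite schemes, sections. -/

set_option autoImplicit false
set_option backward.isDefEq.respectTransparency false
set_option linter.style.haveILetI false
universe u

open CategoryTheory CategoryTheory.Limits AlgebraicGeometry TopologicalSpace Topology IsLocalRing

namespace Groth.Agent.HensSec7

variable (R : Type u) [CommRing R] [HenselianLocalRing R]

noncomputable abbrev closedPointHom : Spec (CommRingCat.of (ResidueField R)) ⟶ Spec (CommRingCat.of R) :=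
  Spec.map (CommRingCat.ofHom (IsLocalRing.residue R))

theorem range_closedPointHom :
    Set.range (closedPointHom R) = PrimeSpectrum.zeroLocus (maximalIdeal R : Set R) := by
  have h := range_comap_of_surjective (ResidueField R) (IsLocalRing.residue R) residue_surjective
  rw [IsLocalRing.ker_residue] at h
  exact h

theorem range_closedPointHom_eq :
    Set.range (closedPointHom R) = ({IsLocalRing.closedPoint R} : Set ↥(Spec (CommRingCat.of R))) := by
  rw [range_closedPointHom]
  exact (PrimeSpectrum.zeroLocus_eq_singleton _)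

instance : IsClosedImmersion (closedPointHom R) :=
  IsClosedImmersion.spec_of_surjective _ residue_surjective

theorem finiteLifts : FiniteLifts (closedPointHom R) := by
  intro S' g hg
  refine (HensCouple7.scheme_lifts_iff g (closedPointHom R)).2 ?_
  rw [range_closedPointHom]
  exact (HensCouple7.henselianRing_iff_lifts R (maximalIdeal R)).1 inferInstance S' g hg

variable {R}

theorem exists_finitePart {X : Scheme.{u}} (f : X ⟶ Spec (CommRingCat.of R))
    [LocallyQuasiFinite f] [LocallyOfFiniteType f] [QuasiCompact f] [IsSeparated f] :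
    ∃! W : X.Opens, IsClosed (W : Set X) ∧ IsFinite (W.ι ≫ f) ∧
      ∀ x : X, f.base x = IsLocalRing.closedPoint R → x ∈ W := by
  let i := closedPointHom R
  have ha : FiniteLifts i := finiteLifts R
  have hi : ∀ y, y ∈ Set.range i ↔ y = IsLocalRing.closedPoint R := fun y => by
    rw [range_closedPointHom_eq]; rfl
  refine existsUnique_of_exists_of_unique ?_ ?_
  · obtain ⟨T, j, π, hj, -, hπ, hjπ⟩ := S0385.result f
    haveI : IsFinite (pullback.snd π i) := MorphismProperty.pullback_snd _ _ hπ
    haveI : DiscreteTopology ↥(pullback π i) := by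
      haveI := IsLocallyArtinian.of_locallyQuasiFinite (pullback.snd π i)
      infer_instance
    obtain ⟨U, ⟨hU, hUV⟩, -⟩ := ha T π hπ ((pullback.fst π i) ⁻¹' Set.range j) (isClopen_discrete _)
    have hUj : U ⊆ Set.range j := by
      have := eq_empty_of_disjoint ha π (C := U ∩ (Set.range j)ᶜ)
        (hU.1.inter j.isOpenEmbedding.isOpen_range.isClosed_compl) fun x hx hxi => hx.2 (by
          obtain ⟨p, rfl⟩ : x ∈ Set.range (pullback.fst π i) := by rw [Scheme.Pullback.range_fst]; exact hxi
          have : p ∈ (pullback.fst π i) ⁻¹' Set.range j := hUV ▸ hx.1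
          exact this)
      exact fun x hx => by_contra fun hxj => (Set.mem_empty_iff_false x).1 (this ▸ ⟨hx, hxj⟩)
    let U' : T.Opens := ⟨U, hU.2⟩
    haveI : IsClosedImmersion U'.ι := .of_isPreimmersion _ (by rw [Scheme.Opens.range_ι]; exact hU.1)
    let W : X.Opens := j ⁻¹ᵁ U'
    refine ⟨W, hU.1.preimage j.continuous, ?_, fun x hx => ?_⟩
    · haveI : IsIso (j ∣_ U') := (isIso_iff_isOpenImmersion_and_surjective _).2 ⟨inferInstance, ⟨fun y => by
        obtain ⟨x, hx⟩ := hUj y.2
        exact ⟨⟨x, show j x ∈ U' by rw [hx]; exact y.2⟩, Subtype.ext (by rw [morphismRestrict_base_coe]; exact hx)⟩⟩⟩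
      have : W.ι ≫ f = (j ∣_ U') ≫ U'.ι ≫ π := by
        rw [← hjπ, ← Category.assoc, ← morphismRestrict_ι, Category.assoc]
      rw [this]
      infer_instance
    · obtain ⟨p, hp⟩ : j x ∈ Set.range (pullback.fst π i) := by
        rw [Scheme.Pullback.range_fst, Set.mem_preimage, hi, ← Scheme.Hom.comp_apply, hjπ]
        exact hx
      show j x ∈ U
      rw [← hp]
      exact (Set.ext_iff.1 hUV p).2 ⟨x, hp.symm⟩
  · have key : ∀ W W' : X.Opens, IsFinite (W.ι ≫ f) →
        (∀ x : X, f.base x = IsLocalRing.closedPoint R → x ∈ W') → W ≤ W' := by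
      intro W W' hW hW' x hx
      have := eq_empty_of_disjoint ha (W.ι ≫ f) (C := (W.ι ⁻¹' (W' : Set X))ᶜ)
        ((W'.2.preimage W.ι.continuous).isClosed_compl) fun y hy hyi => hy (hW' _ ((hi _).1 hyi))
      by_contra hx'
      exact (Set.mem_empty_iff_false (⟨x, hx⟩ : W)).1 (this ▸ (show (⟨x, hx⟩ : W) ∈ (W.ι ⁻¹' (W' : Set X))ᶜ from hx'))
    exact fun W W' h h' => le_antisymm (key W W' h.2.1 h'.2.2) (key W' W h'.2.1 h.2.2)

/-- A finite etale morphism to the spectrum of a henselian local ring meeting the closed fibre is surjective. -/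
theorem surjective_of_etale {U : Scheme.{u}} (q : U ⟶ Spec (CommRingCat.of R)) [IsFinite q] [Etale q]
    (h : ∃ x, q x = IsLocalRing.closedPoint R) : Surjective q := by
  refine ⟨fun s => ?_⟩
  obtain ⟨x, hx⟩ := h
  have : s ⤳ IsLocalRing.closedPoint R := IsLocalRing.specializes_closedPoint s
  exact this.mem_open q.isOpenMap.isOpen_range ⟨x, hx⟩

end Groth.Agent.HensSec7
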