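import Groth.Agent.S0385
import Groth.Agent.HensCouple7.Affine
import Groth.Agent.AlgSpLib.EtLocalInst
import Mathlib.AlgebraicGeometry.Morphisms.FlatMono

/-! Clopens lift along finite morphisms => sections of separated etale morphisms lift. -/

set_option autoImplicit false
set_option backward.isDefEq.respectTransparency false
set_option linter.style.haveILetI false
universe u

open CategoryTheory CategoryTheory.Limits AlgebraicGeometry TopologicalSpace Topology

namespace Groth.Agent.HensSec7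

/-- Clopens of finite schemes over `S` are lifted uniquely from `S₀`. -/
def FiniteLifts {S S₀ : Scheme.{u}} (i : S₀ ⟶ S) : Prop :=
  ∀ (S' : Scheme.{u}) (g : S' ⟶ S), IsFinite g →
    ∀ V : Set ↥(pullback g i), IsClopen V → ∃! U : Set ↥S', IsClopen U ∧ (pullback.fst g i).base ⁻¹' U = V

variable {S S₀ : Scheme.{u}} {i : S₀ ⟶ S}

theorem isEmpty_of_disjoint (ha : FiniteLifts i) {Z : Scheme.{u}} (g : Z ⟶ S) [IsFinite g]
    (hZ : ∀ z, g z ∉ Set.range i) : IsEmpty Z := by
  have hP : ∀ p : ↥(pullback g i), False := fun p =>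
    hZ (pullback.fst g i p) ⟨pullback.snd g i p, by rw [← Scheme.Hom.comp_apply, ← Scheme.Hom.comp_apply, pullback.condition]⟩
  obtain ⟨U, -, hU⟩ := ha Z g inferInstance ∅ isClopen_empty
  have h1 := hU ∅ ⟨isClopen_empty, rfl⟩
  have h2 := hU Set.univ ⟨isClopen_univ, Set.eq_empty_of_forall_notMem fun p _ => hP p⟩
  exact Set.univ_eq_empty_iff.1 (h2.trans h1.symm)

theorem eq_empty_of_disjoint (ha : FiniteLifts i) {T : Scheme.{u}} (π : T ⟶ S) [IsFinite π] {C : Set T}
    (hC : IsClosed C) (hd : ∀ x ∈ C, π x ∉ Set.range i) : C = ∅ := by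
  let I := Scheme.IdealSheafData.vanishingIdeal (X := T) ⟨C, hC⟩
  have hr : Set.range I.subschemeι = C := by
    rw [Scheme.IdealSheafData.range_subschemeι, Scheme.IdealSheafData.coe_support_vanishingIdeal]
    rfl
  have := isEmpty_of_disjoint ha (I.subschemeι ≫ π) fun z => by
    rw [Scheme.Hom.comp_apply]
    exact hd _ (by rw [← hr]; exact ⟨z, rfl⟩)
  rw [← hr]
  exact Set.range_eq_empty _

/-- An open subset of `S` containing `S₀` is everything. -/
theorem surjective_of_isOpen_range (ha : FiniteLifts i) {P : Scheme.{u}} (f : P ⟶ S) [IsOpenImmersion f]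
    (h : Set.range i ⊆ Set.range f) : Surjective f := by
  refine ⟨fun s => by_contra fun hs => ?_⟩
  have hC : (Set.range f)ᶜ = ∅ := eq_empty_of_disjoint ha (𝟙 S)
    f.isOpenEmbedding.isOpen_range.isClosed_compl fun x hx hxi => hx (h (by simpa using hxi))
  exact (Set.mem_empty_iff_false s).1 (hC ▸ hs)

/-- A finite etale morphism with bijective restriction over `S₀` is an isomorphism. -/
theorem isIso_of_isIso_snd (ha : FiniteLifts i) {U : Scheme.{u}} (q : U ⟶ S) [IsFinite q] [Etale q]
    [IsIso (pullback.snd q i)] : IsIso q := by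
  have hsurj : Surjective q := by
    refine ⟨fun s => by_contra fun hs => ?_⟩
    have hC : (Set.range q)ᶜ = ∅ := by
      refine eq_empty_of_disjoint ha (𝟙 S) q.isOpenMap.isOpen_range.isClosed_compl fun x hx hxi => hx ?_
      obtain ⟨s₀, hs₀⟩ : x ∈ Set.range i := by simpa using hxi
      obtain ⟨p, rfl⟩ := (pullback.snd q i).surjective s₀
      exact ⟨pullback.fst q i p, by rw [← hs₀, ← Scheme.Hom.comp_apply, pullback.condition, Scheme.Hom.comp_apply]⟩
    exact (Set.mem_empty_iff_false s).1 (hC ▸ hs)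
  let Δ := pullback.diagonal q
  haveI : IsFinite (pullback.fst q q ≫ q) := by
    haveI : IsFinite (pullback.fst q q) := MorphismProperty.pullback_fst _ _ inferInstance
    infer_instance
  have hC : (Set.range Δ)ᶜ = ∅ := by
    refine eq_empty_of_disjoint ha (pullback.fst q q ≫ q) Δ.isOpenEmbedding.isOpen_range.isClosed_compl
      fun w hw hwi => hw ?_
    obtain ⟨p, rfl⟩ : w ∈ Set.range (pullback.fst (pullback.fst q q ≫ q) i) := by
      rw [Scheme.Pullback.range_fst]; exact hwi
    let a := pullback.fst (pullback.fst q q ≫ q) i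
    let b := pullback.snd (pullback.fst q q ≫ q) i
    have h1 : (a ≫ pullback.fst q q) ≫ q = b ≫ i := by rw [Category.assoc]; exact pullback.condition
    have h2 : (a ≫ pullback.snd q q) ≫ q = b ≫ i := by
      rw [Category.assoc, ← pullback.condition]; exact pullback.condition
    have h3 : pullback.lift _ _ h1 = pullback.lift _ _ h2 :=
      (cancel_mono (pullback.snd q i)).1 (by rw [pullback.lift_snd, pullback.lift_snd])
    have h4 : a ≫ pullback.fst q q = a ≫ pullback.snd q q := by
      have := congrArg (· ≫ pullback.fst q i) h3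
      simpa using this
    have h5 : (a ≫ pullback.fst q q) ≫ Δ = a := pullback.hom_ext (by simp [Δ]) (by simp [Δ, h4])
    exact ⟨(a ≫ pullback.fst q q) p, by rw [← Scheme.Hom.comp_apply, h5]⟩
  haveI : Surjective Δ := ⟨fun w => by_contra fun hw => (Set.mem_empty_iff_false w).1 (hC ▸ hw)⟩
  haveI : IsIso Δ := (isIso_iff_isOpenImmersion_and_surjective _).2 ⟨inferInstance, inferInstance⟩
  haveI : Mono q := (pullback.isIso_diagonal_iff q).1 ‹_›
  haveI := IsOpenImmersion.of_flat_of_mono q
  exact (isIso_iff_isOpenImmersion_and_surjective _).2 ⟨inferInstance, hsurj⟩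

theorem section_unique (ha : FiniteLifts i) {S' : Scheme.{u}} (g : S' ⟶ S) [Etale g] [IsSeparated g]
    {u u' : S ⟶ S'} (hu : u ≫ g = 𝟙 S) (hu' : u' ≫ g = 𝟙 S) (h : i ≫ u = i ≫ u') : u = u' := by
  let m : S ⟶ pullback g g := pullback.lift u u' (hu.trans hu'.symm)
  let P := pullback m (pullback.diagonal g)
  let j : P ⟶ S := pullback.fst m (pullback.diagonal g)
  haveI : IsOpenImmersion j := MorphismProperty.pullback_fst _ _ inferInstance
  haveI := surjective_of_isOpen_range ha j (by
    rintro _ ⟨s, rfl⟩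
    let t : S₀ ⟶ P := pullback.lift i (i ≫ u) (pullback.hom_ext (by simp [m]) (by simp [m, h]))
    exact ⟨t s, by rw [← Scheme.Hom.comp_apply, pullback.lift_fst]⟩)
  haveI : IsIso j := (isIso_iff_isOpenImmersion_and_surjective _).2 ⟨inferInstance, inferInstance⟩
  have hc := pullback.condition (f := m) (g := pullback.diagonal g)
  have e1 := congrArg (· ≫ pullback.fst g g) hc
  have e2 := congrArg (· ≫ pullback.snd g g) hc
  simp [m] at e1 e2
  exact (cancel_epi j).1 (e1.trans e2.symm)

theorem existsUnique_section (ha : FiniteLifts i) [IsClosedImmersion i] [CompactSpace S]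
    [QuasiSeparatedSpace S] {S' : Scheme.{u}} (g : S' ⟶ S) [Etale g] [IsSeparated g]
    (v₀ : S₀ ⟶ S') (hv₀ : v₀ ≫ g = i) : ∃! u : S ⟶ S', u ≫ g = 𝟙 S ∧ i ≫ u = v₀ := by
  refine existsUnique_of_exists_of_unique ?_ fun u u' hu hu' =>
    section_unique ha g hu.1 hu'.1 (hu.2.trans hu'.2.symm)
  haveI : CompactSpace S₀ := QuasiCompact.compactSpace_of_compactSpace i
  obtain ⟨W, hW, hvW⟩ : ∃ W : S'.Opens, IsCompact (W : Set S') ∧ Set.range v₀ ⊆ W := by
    have hc := isCompact_range v₀.continuous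
    obtain ⟨t, ht⟩ := hc.elim_finite_subcover (fun V : {V : S'.Opens // IsAffineOpen V} => (V.1 : Set S'))
      (fun V => V.1.2) fun x _ => by
        obtain ⟨V, hV, hxV, -⟩ := exists_isAffineOpen_mem_and_subset (show x ∈ (⊤ : S'.Opens) from trivial)
        exact Set.mem_iUnion.2 ⟨⟨V, hV⟩, hxV⟩
    refine ⟨⟨⋃ V ∈ t, (V.1 : Set S'), isOpen_biUnion fun V _ => V.1.2⟩, ?_, ht⟩
    exact t.finite_toSet.isCompact_biUnion fun V _ => V.2.isCompact
  haveI : CompactSpace (W : Scheme.{u}) := isCompact_iff_compactSpace.mp hW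
  let gW := W.ι ≫ g
  haveI : QuasiCompact gW := inferInstance
  obtain ⟨T, j, π, hj, -, hπ, hjπ⟩ := S0385.result gW
  let w₀ : S₀ ⟶ W := IsOpenImmersion.lift W.ι v₀ (by rw [Scheme.Opens.range_ι]; exact hvW)
  have hw₀ : w₀ ≫ W.ι = v₀ := IsOpenImmersion.lift_fac _ _ _
  have hw₀g : w₀ ≫ gW = i := by rw [← Category.assoc, hw₀, hv₀]
  let σ : S₀ ⟶ pullback π i := pullback.lift (w₀ ≫ j) (𝟙 _) (by rw [Category.assoc, hjπ, hw₀g, Category.id_comp])
  let ε : S₀ ⟶ pullback gW i := pullback.lift w₀ (𝟙 _) (by rw [hw₀g, Category.id_comp])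
  haveI : IsSplitMono ε := ⟨⟨pullback.snd gW i, pullback.lift_snd _ _ _⟩⟩
  haveI : Etale (ε ≫ pullback.snd gW i) := by rw [pullback.lift_snd]; infer_instance
  haveI : Etale ε := Etale.of_comp ε (pullback.snd gW i)
  haveI : IsOpenImmersion ε := IsOpenImmersion.of_flat_of_mono ε
  let jj : pullback gW i ⟶ pullback π i := pullback.map gW i π i j (𝟙 _) (𝟙 _) (by simp [hjπ]) (by simp)
  have hσ : ε ≫ jj = σ := pullback.hom_ext (by simp [ε, σ, jj]) (by simp [ε, σ, jj])
  haveI : IsClosedImmersion σ := by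
    haveI : IsFinite (pullback.snd π i) := MorphismProperty.pullback_snd _ _ hπ
    haveI : IsClosedImmersion (σ ≫ pullback.snd π i) := by rw [pullback.lift_snd]; infer_instance
    exact IsClosedImmersion.of_comp σ (pullback.snd π i)
  haveI : IsOpenImmersion jj := by
    have hjj : jj = pullback.lift (pullback.fst gW i ≫ j) (pullback.snd gW i)
        (by rw [Category.assoc, hjπ, pullback.condition]) := pullback.hom_ext (by simp [jj]) (by simp [jj])
    have hpb : IsPullback jj (pullback.fst gW i) (pullback.fst π i) j := by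
      refine IsPullback.of_right ?_ (by rw [hjj, pullback.lift_fst]) (IsPullback.of_hasPullback π i).flip
      rw [hjj, pullback.lift_snd, hjπ]
      exact (IsPullback.of_hasPullback gW i).flip
    exact MorphismProperty.of_isPullback hpb.flip hj
  haveI : IsOpenImmersion σ := hσ ▸ inferInstance
  obtain ⟨U, ⟨hU, hUV⟩, -⟩ := ha T π hπ (Set.range σ)
    ⟨σ.isClosedEmbedding.isClosed_range, σ.isOpenEmbedding.isOpen_range⟩
  have hUj : U ⊆ Set.range j := by
    have := eq_empty_of_disjoint ha π (C := U ∩ (Set.range j)ᶜ)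
      (hU.1.inter j.isOpenEmbedding.isOpen_range.isClosed_compl) fun x hx hxi => hx.2 (by
        obtain ⟨p, rfl⟩ : x ∈ Set.range (pullback.fst π i) := by rw [Scheme.Pullback.range_fst]; exact hxi
        obtain ⟨s, rfl⟩ : p ∈ Set.range σ := hUV ▸ hx.1
        exact ⟨w₀ s, by rw [← Scheme.Hom.comp_apply, ← Scheme.Hom.comp_apply, pullback.lift_fst]⟩)
    exact fun x hx => by_contra fun hxj => (Set.mem_empty_iff_false x).1 (this ▸ ⟨hx, hxj⟩)
  let U' : T.Opens := ⟨U, hU.2⟩
  haveI : IsClosedImmersion U'.ι := .of_isPreimmersion _ (by rw [Scheme.Opens.range_ι]; exact hU.1)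
  let q := U'.ι ≫ π
  let l : (U' : Scheme.{u}) ⟶ W := IsOpenImmersion.lift j U'.ι (by rw [Scheme.Opens.range_ι]; exact hUj)
  have hl : l ≫ j = U'.ι := IsOpenImmersion.lift_fac _ _ _
  haveI : IsOpenImmersion (l ≫ j) := hl ▸ inferInstance
  haveI : IsOpenImmersion l := IsOpenImmersion.of_comp l j
  have hlq : l ≫ gW = q := by rw [← hjπ, ← Category.assoc, hl]
  haveI : Etale q := hlq ▸ inferInstance
  let w' : S₀ ⟶ (U' : Scheme.{u}) := IsOpenImmersion.lift U'.ι (w₀ ≫ j) (by
    rintro _ ⟨s, rfl⟩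
    rw [Scheme.Opens.range_ι]
    have hs : σ s ∈ (pullback.fst π i) ⁻¹' U := by rw [hUV]; exact ⟨s, rfl⟩
    have he : σ ≫ pullback.fst π i = w₀ ≫ j := pullback.lift_fst _ _ _
    rw [Set.mem_preimage, ← Scheme.Hom.comp_apply, he] at hs
    exact hs)
  have hw' : w' ≫ U'.ι = w₀ ≫ j := IsOpenImmersion.lift_fac _ _ _
  have hw'q : w' ≫ q = i := by rw [← Category.assoc, hw', Category.assoc, hjπ, hw₀g]
  let τ : S₀ ⟶ pullback q i := pullback.lift w' (𝟙 _) (by rw [hw'q, Category.id_comp])
  let uu : pullback q i ⟶ pullback π i := pullback.map q i π i U'.ι (𝟙 _) (𝟙 _) (by simp [q]) (by simp)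
  haveI : IsOpenImmersion uu := by
    have huu : uu = pullback.lift (pullback.fst q i ≫ U'.ι) (pullback.snd q i)
        (by rw [Category.assoc, pullback.condition]) := pullback.hom_ext (by simp [uu]) (by simp [uu])
    have hpb : IsPullback uu (pullback.fst q i) (pullback.fst π i) U'.ι := by
      refine IsPullback.of_right ?_ (by rw [huu, pullback.lift_fst]) (IsPullback.of_hasPullback π i).flip
      rw [huu, pullback.lift_snd]
      exact (IsPullback.of_hasPullback q i).flip
    exact MorphismProperty.of_isPullback hpb.flip inferInstance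
  have hτ : τ ≫ uu = σ := pullback.hom_ext (by simp [τ, uu, σ, hw']) (by simp [τ, uu, σ])
  haveI : IsOpenImmersion (τ ≫ uu) := hτ ▸ inferInstance
  haveI : IsOpenImmersion τ := IsOpenImmersion.of_comp τ uu
  haveI : Surjective τ := ⟨fun p => by
    obtain ⟨s, hs⟩ : uu p ∈ Set.range σ := by
      rw [← hUV, Set.mem_preimage, ← Scheme.Hom.comp_apply,
        show uu ≫ pullback.fst π i = pullback.fst q i ≫ U'.ι by simp [uu]]
      exact (pullback.fst q i p).2
    exact ⟨s, uu.isOpenEmbedding.injective (by rw [← Scheme.Hom.comp_apply, hτ, hs])⟩⟩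
  haveI : IsIso τ := (isIso_iff_isOpenImmersion_and_surjective _).2 ⟨inferInstance, inferInstance⟩
  haveI : IsIso (τ ≫ pullback.snd q i) := by rw [pullback.lift_snd]; infer_instance
  haveI : IsIso (pullback.snd q i) := IsIso.of_isIso_comp_left τ _
  haveI := isIso_of_isIso_snd ha q
  refine ⟨inv q ≫ l ≫ W.ι, by simp [gW, ← hlq, Category.assoc], ?_⟩
  have : w' ≫ l = w₀ := (cancel_mono j).1 (by rw [Category.assoc, hl, hw'])
  rw [← hw'q, Category.assoc, IsIso.hom_inv_id_assoc, reassoc_of% this, hw₀]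

end Groth.Agent.HensSec7
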